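import Cfsg.Agent.Helper28.SZL2.Data

set_option autoImplicit false

namespace Cfsg.Agent.Helper28.SZL2

theorem lb2_16 : Cfsg.Agent.Helper28.ptChunk (Cfsg.Agent.Helper28.lbPt Cfsg.Agent.Helper28.C1681.T 22880 W2 ov2 op2 otp2 otw2) 13608 256 16 = true := by decide +kernel

theorem lb2_17 : Cfsg.Agent.Helper28.ptChunk (Cfsg.Agent.Helper28.lbPt Cfsg.Agent.Helper28.C1681.T 22880 W2 ov2 op2 otp2 otw2) 13608 256 17 = true := by decide +kernel

theorem lb2_18 : Cfsg.Agent.Helper28.ptChunk (Cfsg.Agent.Helper28.lbPt Cfsg.Agent.Helper28.C1681.T 22880 W2 ov2 op2 otp2 otw2) 13608 256 18 = true := by decide +kernel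

theorem lb2_19 : Cfsg.Agent.Helper28.ptChunk (Cfsg.Agent.Helper28.lbPt Cfsg.Agent.Helper28.C1681.T 22880 W2 ov2 op2 otp2 otw2) 13608 256 19 = true := by decide +kernel

theorem lb2_20 : Cfsg.Agent.Helper28.ptChunk (Cfsg.Agent.Helper28.lbPt Cfsg.Agent.Helper28.C1681.T 22880 W2 ov2 op2 otp2 otw2) 13608 256 20 = true := by decide +kernel

theorem lb2_21 : Cfsg.Agent.Helper28.ptChunk (Cfsg.Agent.Helper28.lbPt Cfsg.Agent.Helper28.C1681.T 22880 W2 ov2 op2 otp2 otw2) 13608 256 21 = true := by decide +kernel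

theorem lb2_22 : Cfsg.Agent.Helper28.ptChunk (Cfsg.Agent.Helper28.lbPt Cfsg.Agent.Helper28.C1681.T 22880 W2 ov2 op2 otp2 otw2) 13608 256 22 = true := by decide +kernel

theorem lb2_23 : Cfsg.Agent.Helper28.ptChunk (Cfsg.Agent.Helper28.lbPt Cfsg.Agent.Helper28.C1681.T 22880 W2 ov2 op2 otp2 otw2) 13608 256 23 = true := by decide +kernel

end Cfsg.Agent.Helper28.SZL2
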