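import Cfsg.Agent.Helper28.SZL2.Data

set_option autoImplicit false

namespace Cfsg.Agent.Helper28.SZL2

theorem lb2_24 : Cfsg.Agent.Helper28.ptChunk (Cfsg.Agent.Helper28.lbPt Cfsg.Agent.Helper28.C1681.T 22880 W2 ov2 op2 otp2 otw2) 13608 256 24 = true := by decide +kernel

theorem lb2_25 : Cfsg.Agent.Helper28.ptChunk (Cfsg.Agent.Helper28.lbPt Cfsg.Agent.Helper28.C1681.T 22880 W2 ov2 op2 otp2 otw2) 13608 256 25 = true := by decide +kernel

theorem lb2_26 : Cfsg.Agent.Helper28.ptChunk (Cfsg.Agent.Helper28.lbPt Cfsg.Agent.Helper28.C1681.T 22880 W2 ov2 op2 otp2 otw2) 13608 256 26 = true := by decide +kernel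

theorem lb2_27 : Cfsg.Agent.Helper28.ptChunk (Cfsg.Agent.Helper28.lbPt Cfsg.Agent.Helper28.C1681.T 22880 W2 ov2 op2 otp2 otw2) 13608 256 27 = true := by decide +kernel

theorem lb2_28 : Cfsg.Agent.Helper28.ptChunk (Cfsg.Agent.Helper28.lbPt Cfsg.Agent.Helper28.C1681.T 22880 W2 ov2 op2 otp2 otw2) 13608 256 28 = true := by decide +kernel

theorem lb2_29 : Cfsg.Agent.Helper28.ptChunk (Cfsg.Agent.Helper28.lbPt Cfsg.Agent.Helper28.C1681.T 22880 W2 ov2 op2 otp2 otw2) 13608 256 29 = true := by decide +kernel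

theorem lb2_30 : Cfsg.Agent.Helper28.ptChunk (Cfsg.Agent.Helper28.lbPt Cfsg.Agent.Helper28.C1681.T 22880 W2 ov2 op2 otp2 otw2) 13608 256 30 = true := by decide +kernel

theorem lb2_31 : Cfsg.Agent.Helper28.ptChunk (Cfsg.Agent.Helper28.lbPt Cfsg.Agent.Helper28.C1681.T 22880 W2 ov2 op2 otp2 otw2) 13608 256 31 = true := by decide +kernel

end Cfsg.Agent.Helper28.SZL2
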