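import Cfsg.Agent.Helper28.SZL2.Data

set_option autoImplicit false

namespace Cfsg.Agent.Helper28.SZL2

theorem lb2_32 : Cfsg.Agent.Helper28.ptChunk (Cfsg.Agent.Helper28.lbPt Cfsg.Agent.Helper28.C1681.T 22880 W2 ov2 op2 otp2 otw2) 13608 256 32 = true := by decide +kernel

theorem lb2_33 : Cfsg.Agent.Helper28.ptChunk (Cfsg.Agent.Helper28.lbPt Cfsg.Agent.Helper28.C1681.T 22880 W2 ov2 op2 otp2 otw2) 13608 256 33 = true := by decide +kernel

theorem lb2_34 : Cfsg.Agent.Helper28.ptChunk (Cfsg.Agent.Helper28.lbPt Cfsg.Agent.Helper28.C1681.T 22880 W2 ov2 op2 otp2 otw2) 13608 256 34 = true := by decide +kernel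

theorem lb2_35 : Cfsg.Agent.Helper28.ptChunk (Cfsg.Agent.Helper28.lbPt Cfsg.Agent.Helper28.C1681.T 22880 W2 ov2 op2 otp2 otw2) 13608 256 35 = true := by decide +kernel

theorem lb2_36 : Cfsg.Agent.Helper28.ptChunk (Cfsg.Agent.Helper28.lbPt Cfsg.Agent.Helper28.C1681.T 22880 W2 ov2 op2 otp2 otw2) 13608 256 36 = true := by decide +kernel

theorem lb2_37 : Cfsg.Agent.Helper28.ptChunk (Cfsg.Agent.Helper28.lbPt Cfsg.Agent.Helper28.C1681.T 22880 W2 ov2 op2 otp2 otw2) 13608 256 37 = true := by decide +kernel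

theorem lb2_38 : Cfsg.Agent.Helper28.ptChunk (Cfsg.Agent.Helper28.lbPt Cfsg.Agent.Helper28.C1681.T 22880 W2 ov2 op2 otp2 otw2) 13608 256 38 = true := by decide +kernel

theorem lb2_39 : Cfsg.Agent.Helper28.ptChunk (Cfsg.Agent.Helper28.lbPt Cfsg.Agent.Helper28.C1681.T 22880 W2 ov2 op2 otp2 otw2) 13608 256 39 = true := by decide +kernel

end Cfsg.Agent.Helper28.SZL2
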