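import Cfsg.Agent.Helper28.C1681.Cert
import Cfsg.Agent.Helper28.SZL2.Lb2_0
import Cfsg.Agent.Helper28.SZL2.Lb2_1
import Cfsg.Agent.Helper28.SZL2.Lb2_2
import Cfsg.Agent.Helper28.SZL2.Lb2_3
import Cfsg.Agent.Helper28.SZL2.Lb2_4
import Cfsg.Agent.Helper28.SZL2.Lb2_5
import Cfsg.Agent.Helper28.SZL2.Lb2_6
import Cfsg.Agent.Helper28.SZL2.Lb3_0

set_option autoImplicit false

namespace Cfsg.Agent.Helper28.SZL2

theorem lb2_all : ∀ t, t < 13608 → Cfsg.Agent.Helper28.lbPt Cfsg.Agent.Helper28.C1681.T 22880 W2 ov2 op2 otp2 otw2 t = true :=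
  Cfsg.Agent.Helper28.pts_of_chunks _ 13608 256 54 (by decide) (by decide)
    (Cfsg.Agent.Helper28.allLt_succ _ 53 (Cfsg.Agent.Helper28.allLt_succ _ 52 (Cfsg.Agent.Helper28.allLt_succ _ 51 (Cfsg.Agent.Helper28.allLt_succ _ 50 (Cfsg.Agent.Helper28.allLt_succ _ 49 (Cfsg.Agent.Helper28.allLt_succ _ 48 (Cfsg.Agent.Helper28.allLt_succ _ 47 (Cfsg.Agent.Helper28.allLt_succ _ 46 (Cfsg.Agent.Helper28.allLt_succ _ 45 (Cfsg.Agent.Helper28.allLt_succ _ 44 (Cfsg.Agent.Helper28.allLt_succ _ 43 (Cfsg.Agent.Helper28.allLt_succ _ 42 (Cfsg.Agent.Helper28.allLt_succ _ 41 (Cfsg.Agent.Helper28.allLt_succ _ 40 (Cfsg.Agent.Helper28.allLt_succ _ 39 (Cfsg.Agent.Helper28.allLt_succ _ 38 (Cfsg.Agent.Helper28.allLt_succ _ 37 (Cfsg.Agent.Helper28.allLt_succ _ 36 (Cfsg.Agent.Helper28.allLt_succ _ 35 (Cfsg.Agent.Helper28.allLt_succ _ 34 (Cfsg.Agent.Helper28.allLt_succ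 _ 33 (Cfsg.Agent.Helper28.allLt_succ _ 32 (Cfsg.Agent.Helper28.allLt_succ _ 31 (Cfsg.Agent.Helper28.allLt_succ _ 30 (Cfsg.Agent.Helper28.allLt_succ _ 29 (Cfsg.Agent.Helper28.allLt_succ _ 28 (Cfsg.Agent.Helper28.allLt_succ _ 27 (Cfsg.Agent.Helper28.allLt_succ _ 26 (Cfsg.Agent.Helper28.allLt_succ _ 25 (Cfsg.Agent.Helper28.allLt_succ _ 24 (Cfsg.Agent.Helper28.allLt_succ _ 23 (Cfsg.Agent.Helper28.allLt_succ _ 22 (Cfsg.Agent.Helper28.allLt_succ _ 21 (Cfsg.Agent.Helper28.allLt_succ _ 20 (Cfsg.Agent.Helper28.allLt_succ _ 19 (Cfsg.Agent.Helper28.allLt_succ _ 18 (Cfsg.Agent.Helper28.allLt_succ _ 17 (Cfsg.Agent.Helper28.allLt_succ _ 16 (Cfsg.Agent.Helper28.allLt_succ _ 15 (Cfsg.Agent.Helper28.allLt_succ _ 14 (Cfsg.Agent.Helper28.allLt_succ _ 13 (Cfsg.Agent.Helper28.allLt_succ _ 12 (Cfsg.Agent.Helper28.allLt_succ _ 11 (Cfsg.Agent.Helper28.allLt_succ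 _ 10 (Cfsg.Agent.Helper28.allLt_succ _ 9 (Cfsg.Agent.Helper28.allLt_succ _ 8 (Cfsg.Agent.Helper28.allLt_succ _ 7 (Cfsg.Agent.Helper28.allLt_succ _ 6 (Cfsg.Agent.Helper28.allLt_succ _ 5 (Cfsg.Agent.Helper28.allLt_succ _ 4 (Cfsg.Agent.Helper28.allLt_succ _ 3 (Cfsg.Agent.Helper28.allLt_succ _ 2 (Cfsg.Agent.Helper28.allLt_succ _ 1 (Cfsg.Agent.Helper28.allLt_succ _ 0 (Cfsg.Agent.Helper28.allLt_zero _) lb2_0) lb2_1) lb2_2) lb2_3) lb2_4) lb2_5) lb2_6) lb2_7) lb2_8) lb2_9) lb2_10) lb2_11) lb2_12) lb2_13) lb2_14) lb2_15) lb2_16) lb2_17) lb2_18) lb2_19) lb2_20) lb2_21) lb2_22) lb2_23) lb2_24) lb2_25) lb2_26) lb2_27) lb2_28) lb2_29) lb2_30) lb2_31) lb2_32) lb2_33) lb2_34) lb2_35) lb2_36) lb2_37) lb2_38) lb2_39) lb2_40) lb2_41) lb2_42) lb2_43) lb2_44) lb2_45) lb2_46) lb2_47) lb2_48) lb2_49) lb2_50) lb2_51) lb2_52) lb2_53)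

theorem fix2 : Cfsg.Agent.Helper28.fixChk Cfsg.Agent.Helper28.C1681.T 7 W2 [0] = true := by decide +kernel

theorem lb3_all : ∀ t, t < 1440 → Cfsg.Agent.Helper28.lbPt Cfsg.Agent.Helper28.C1681.T 22880 W3 ov3 op3 otp3 otw3 t = true :=
  Cfsg.Agent.Helper28.pts_of_chunks _ 1440 256 6 (by decide) (by decide)
    (Cfsg.Agent.Helper28.allLt_succ _ 5 (Cfsg.Agent.Helper28.allLt_succ _ 4 (Cfsg.Agent.Helper28.allLt_succ _ 3 (Cfsg.Agent.Helper28.allLt_succ _ 2 (Cfsg.Agent.Helper28.allLt_succ _ 1 (Cfsg.Agent.Helper28.allLt_succ _ 0 (Cfsg.Agent.Helper28.allLt_zero _) lb3_0) lb3_1) lb3_2) lb3_3) lb3_4) lb3_5)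

theorem fix3 : Cfsg.Agent.Helper28.fixChk Cfsg.Agent.Helper28.C1681.T 7 W3 [ov2 0, 0] = true := by decide +kernel

/-- the stabiliser chain bounds the order from below -/
theorem lb_chain [Finite Cfsg.Spor.Suz] :
    22880 * 13608 * 1440 * Nat.card (Cfsg.Agent.Helper28.fixSub Cfsg.Agent.Helper28.C1681.cert.perm [ov3 0, ov2 0, 0]) ≤ Nat.card Cfsg.Spor.Suz :=
  Cfsg.Agent.Helper28.chain_mul (Cfsg.Agent.Helper28.chain_mul (Cfsg.Agent.Helper28.C1681.cert.lb_top) (Cfsg.Agent.Helper28.C1681.cert.lb_level [0] W2 13608 ov2 op2 otp2 otw2 fix2 lb2_all)) (Cfsg.Agent.Helper28.C1681.cert.lb_level [ov2 0, 0] W3 1440 ov3 op3 otp3 otw3 fix3 lb3_all)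

end Cfsg.Agent.Helper28.SZL2
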